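import Groth.Agent.Lib.MLLim8.Homology
import Groth.Prelude.Def_Formal2
import Mathlib.Algebra.Category.Grp.Limits

/-!
# The lim¹ sequence for a tower of cochain complexes with surjective transition maps
-/

set_option autoImplicit false
set_option backward.isDefEq.respectTransparency false
set_option backward.isDefEq.respectTransparency.types false

universe u

open CategoryTheory CategoryTheory.Limits Opposite

noncomputable section

namespace Groth.Agent.MilnorCx2

open Groth.Agent.MLLim8

variable (K : ℕᵒᵖ ⥤ HomologicalComplex AddCommGrpCat.{u} (ComplexShape.up ℤ)) {p q : ℤ}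

/-- One step of the tower in one degree. -/
abbrev fs (j : ℤ) (i : ℕ) : (K.obj (op (i + 1))).X j ⟶ (K.obj (op i)).X j :=
  (K.map (homOfLE (Nat.le_succ i)).op).f j

theorem fs_d (a b : ℤ) (i : ℕ) (x : (K.obj (op (i + 1))).X a) :
    fs K b i ((K.obj (op (i + 1))).d a b x) = (K.obj (op i)).d a b (fs K a i x) :=
  (ConcreteCategory.congr_hom ((K.map (homOfLE (Nat.le_succ i)).op).comm a b) x).symm

/-- A sequence compatible at each step is compatible. -/
theorem compat {j : ℤ} (t : ∀ i, (deg K j).obj (op i)) (h : ∀ i, fs K j i (t (i + 1)) = t i) :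
    ∀ i k (hik : i ≤ k), res (deg K j) hik (t k) = t i := by
  intro i k hik
  induction k, hik using Nat.le_induction with
  | base => exact res_self (deg K j) _ _
  | succ k hk ih =>
    rw [← res_res (deg K j) hk (Nat.le_succ k)]
    exact (congrArg _ (h k)).trans ih

theorem fs_iCycles (j : ℤ) (i : ℕ) (z : ((K.obj (op (i + 1))).cycles j : AddCommGrpCat.{u})) :
    fs K j i ((K.obj (op (i + 1))).iCycles j z) =
      (K.obj (op i)).iCycles j (HomologicalComplex.cyclesMap (K.map (homOfLE (Nat.le_succ i)).op) j z) :=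
  res_cycles K (Nat.le_succ i) z

theorem homologyMap_class (j : ℤ) (i : ℕ) (z : ((K.obj (op (i + 1))).cycles j : AddCommGrpCat.{u})) :
    (HomologicalComplex.homologyMap (K.map (homOfLE (Nat.le_succ i)).op) j).hom
        ((K.obj (op (i + 1))).homologyπ j z) =
      (K.obj (op i)).homologyπ j (HomologicalComplex.cyclesMap (K.map (homOfLE (Nat.le_succ i)).op) j z) :=
  res_homology K (Nat.le_succ i) z

variable (p q) in
/-- Sequences whose successive differences are cycles. -/
def W : AddSubgroup (∀ i, ((K.obj (op i)).X q : AddCommGrpCat.{u})) where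
  carrier := {y | ∀ i, (K.obj (op i)).d q p (y i - fs K q i (y (i + 1))) = 0}
  zero_mem' i := by simp
  add_mem' {a b} ha hb i := by
    show (K.obj (op i)).d q p ((a i + b i) - fs K q i (a (i + 1) + b (i + 1))) = 0
    rw [map_add, add_sub_add_comm, map_add, ha i, hb i, add_zero]
  neg_mem' {a} ha i := by
    show (K.obj (op i)).d q p (-a i - fs K q i (-a (i + 1))) = 0
    rw [map_neg, show -a i - -(fs K q i (a (i + 1))) = -(a i - fs K q i (a (i + 1))) by abel, map_neg,
      ha i, neg_zero]

variable (hqp : q + 1 = p)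

include hqp in
theorem hnext : (ComplexShape.up ℤ).next q = p := (ComplexShape.up ℤ).next_eq' hqp

include hqp in
theorem hprev : (ComplexShape.up ℤ).prev p = q := (ComplexShape.up ℤ).prev_eq' hqp

/-- The cycle attached to a successive difference. -/
def cy (y : W K p q) (i : ℕ) : ((K.obj (op i)).cycles q : AddCommGrpCat.{u}) :=
  (exists_cycle (K.obj (op i)) (hnext hqp) _ (y.2 i)).choose

theorem cy_spec (y : W K p q) (i : ℕ) :
    (K.obj (op i)).iCycles q (cy K hqp y i) = y.1 i - fs K q i (y.1 (i + 1)) :=
  (exists_cycle (K.obj (op i)) (hnext hqp) _ (y.2 i)).choose_spec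

/-- The family of classes of successive differences. -/
def chi : W K p q →+ ∀ i, ((K.obj (op i)).homology q : AddCommGrpCat.{u}) :=
  AddMonoidHom.mk' (fun y i => (K.obj (op i)).homologyπ q (cy K hqp y i)) fun a b => funext fun i => by
    show (K.obj (op i)).homologyπ q (cy K hqp (a + b) i) =
      (K.obj (op i)).homologyπ q (cy K hqp a i) + (K.obj (op i)).homologyπ q (cy K hqp b i)
    rw [← map_add]
    refine congrArg _ (iCycles_injective _ q ?_)
    rw [map_add, cy_spec, cy_spec, cy_spec]
    show a.1 i + b.1 i - fs K q i (a.1 (i + 1) + b.1 (i + 1)) = _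
    rw [map_add]
    abel

/-- The transition maps of the tower of cohomology groups. -/
abbrev trH (i : ℕ) : ((K.obj (op (i + 1))).homology q : AddCommGrpCat.{u}) →+
    ((K.obj (op i)).homology q : AddCommGrpCat.{u}) :=
  (HomologicalComplex.homologyMap (K.map (homOfLE (Nat.le_succ i)).op) q).hom

/-- The map to `lim¹`. -/
def alpha : W K p q →+
    Formal2.limOne (fun n => ((K.obj (op n)).homology q : AddCommGrpCat.{u})) (fun n => trH K n) :=
  (QuotientAddGroup.mk' _).comp (chi K hqp)

include hqp in
theorem step_d (y : W K p q) (i : ℕ) :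
    fs K p i ((K.obj (op (i + 1))).d q p (y.1 (i + 1))) = (K.obj (op i)).d q p (y.1 i) := by
  have h := y.2 i
  rw [map_sub, sub_eq_zero] at h
  rw [fs_d]
  exact h.symm

include hqp in
theorem exists_xW (y : W K p q) :
    ∃ x, ∀ i, pr K p i x = (K.obj (op i)).d q p (y.1 i) :=
  exists_lim_X K (fun i => (K.obj (op i)).d q p (y.1 i)) (compat K _ fun i => step_d K hqp y i)

include hqp in
theorem exists_zW (y : W K p q) :
    ∃ z : ((limit K).cycles p : AddCommGrpCat.{u}), ∀ i,
      pr K p i ((limit K).iCycles p z) = (K.obj (op i)).d q p (y.1 i) := by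
  obtain ⟨x, hx⟩ := exists_xW K hqp y
  obtain ⟨z, rfl⟩ := exists_cycle (limit K) (k := (ComplexShape.up ℤ).next p) rfl x (lim_X_ext K fun i => by
    rw [pr_d, hx, map_zero]
    exact ConcreteCategory.congr_hom ((K.obj (op i)).d_comp_d q p _) (y.1 i))
  exact ⟨z, hx⟩

/-- The class in the limit complex. -/
def beta₀ : W K p q →+ ((limit K).homology p : AddCommGrpCat.{u}) :=
  AddMonoidHom.mk' (fun y => (limit K).homologyπ p (exists_zW K hqp y).choose) fun a b => by
    rw [← map_add]
    refine congrArg _ (iCycles_injective _ p (lim_X_ext K fun i => ?_))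
    rw [(exists_zW K hqp (a + b)).choose_spec, map_add, map_add, (exists_zW K hqp a).choose_spec,
      (exists_zW K hqp b).choose_spec]
    exact map_add ((K.obj (op i)).d q p).hom (a.1 i) (b.1 i)

/-- The class lies in the kernel of the comparison map. -/
def beta : W K p q →+
    (limit.post K (HomologicalComplex.homologyFunctor AddCommGrpCat.{u} (ComplexShape.up ℤ) p)).hom.ker :=
  (beta₀ K hqp).codRestrict _ fun y => lim_ext _ fun i => by
    rw [map_zero]
    refine (post_π K p i _).trans ?_
    refine (homologyπ_eq_zero_iff (K.obj (op i)) (hprev hqp) _).2 ⟨y.1 i, ?_⟩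
    rw [← pr_iCycles, (exists_zW K hqp y).choose_spec]

theorem beta_surjective : Function.Surjective (beta K hqp) := by
  rintro ⟨h, hh⟩
  obtain ⟨z, rfl⟩ := homologyπ_surjective (limit K) p h
  have hb : ∀ i, ∃ w, (K.obj (op i)).d q p w = pr K p i ((limit K).iCycles p z) := fun i => by
    rw [pr_iCycles]
    refine (homologyπ_eq_zero_iff (K.obj (op i)) (hprev hqp) _).1 ?_
    refine (post_π K p i z).symm.trans ?_
    rw [show (limit.post K (HomologicalComplex.homologyFunctor AddCommGrpCat.{u} (ComplexShape.up ℤ) p))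
      ((limit K).homologyπ p z) = 0 from hh, map_zero]
  choose y hy using hb
  have hy' : y ∈ W K p q := fun i => by
    rw [map_sub, sub_eq_zero, hy, ← fs_d, hy]
    exact (ConcreteCategory.congr_hom (congrArg (fun f => f.f p)
      (limit.w K (homOfLE (Nat.le_succ i)).op)) ((limit K).iCycles p z)).symm
  refine ⟨⟨y, hy'⟩, Subtype.ext ?_⟩
  show (limit K).homologyπ p _ = (limit K).homologyπ p z
  refine congrArg _ (iCycles_injective _ p (lim_X_ext K fun i => ?_))
  rw [(exists_zW K hqp ⟨y, hy'⟩).choose_spec]
  exact hy i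

variable (hK : ∀ (n : ℕ) (j : ℤ), Function.Surjective (fs K j n))

include hK in
theorem exists_telescope (j : ℤ) (e : ∀ i, ((K.obj (op i)).X j : AddCommGrpCat.{u})) :
    ∃ v : ∀ i, ((K.obj (op i)).X j : AddCommGrpCat.{u}), ∀ i, v i - fs K j i (v (i + 1)) = e i := by
  refine ⟨fun n => Nat.rec (motive := fun n => ((K.obj (op n)).X j : AddCommGrpCat.{u})) 0
    (fun i a => (hK i j (a - e i)).choose) n, fun i => ?_⟩
  show _ - fs K j i ((hK i j (_ - e i)).choose) = e i
  rw [(hK i j _).choose_spec]
  exact sub_sub_cancel _ _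

include hK in
theorem alpha_surjective : Function.Surjective (alpha K hqp) := by
  intro x
  obtain ⟨c, rfl⟩ := QuotientAddGroup.mk'_surjective _ x
  choose e he using fun i => homologyπ_surjective (K.obj (op i)) q (c i)
  obtain ⟨v, hv⟩ := exists_telescope K hK q fun i => (K.obj (op i)).iCycles q (e i)
  have hv' : v ∈ W K p q := fun i => by rw [hv]; exact d_iCycles _ _ _ _
  refine ⟨⟨v, hv'⟩, congrArg (QuotientAddGroup.mk' _) (funext fun i => ?_)⟩
  rw [← he i]
  show (K.obj (op i)).homologyπ q (cy K hqp ⟨v, hv'⟩ i) = _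
  refine congrArg _ (iCycles_injective _ q ?_)
  rw [cy_spec]
  exact hv i

include hK in
theorem ker_beta : (beta K hqp).ker = (alpha K hqp).ker := by
  ext y
  rw [AddMonoidHom.mem_ker, AddMonoidHom.mem_ker]
  constructor
  · intro h
    have h₀ : (limit K).homologyπ p (exists_zW K hqp y).choose = 0 := congrArg Subtype.val h
    obtain ⟨w, hw⟩ := (homologyπ_eq_zero_iff (limit K) (hprev hqp) _).1 h₀
    have hd : ∀ i, (K.obj (op i)).d q p (y.1 i - (limit.π K (op i)).f q w) = 0 := fun i => by
      rw [map_sub, sub_eq_zero]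
      refine Eq.trans ?_ (pr_d K q p i w)
      rw [hw, (exists_zW K hqp y).choose_spec]
    choose b hb using fun i => exists_cycle (K.obj (op i)) (hnext hqp) _ (hd i)
    refine (QuotientAddGroup.eq_zero_iff _).2 ⟨fun i => (K.obj (op i)).homologyπ q (b i), funext fun i => ?_⟩
    show (K.obj (op i)).homologyπ q (b i) - trH K i ((K.obj (op (i + 1))).homologyπ q (b (i + 1))) =
      (K.obj (op i)).homologyπ q (cy K hqp y i)
    rw [homologyMap_class, ← map_sub]
    refine congrArg _ (iCycles_injective _ q ?_)
    rw [map_sub, ← fs_iCycles, hb, hb, cy_spec, map_sub (fs K q i).hom]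
    have hw' : fs K q i ((limit.π K (op (i + 1))).f q w) = (limit.π K (op i)).f q w :=
      ConcreteCategory.congr_hom (congrArg (fun f => f.f q) (limit.w K (homOfLE (Nat.le_succ i)).op)) w
    rw [hw']
    abel
  · intro h
    obtain ⟨c, hc⟩ := (QuotientAddGroup.eq_zero_iff _).1 h
    choose b hb using fun i => homologyπ_surjective (K.obj (op i)) q (c i)
    have hw : ∀ i, ∃ w, (K.obj (op i)).d ((ComplexShape.up ℤ).prev q) q w =
        (K.obj (op i)).iCycles q (cy K hqp y i -
          (b i - HomologicalComplex.cyclesMap (K.map (homOfLE (Nat.le_succ i)).op) q (b (i + 1)))) := fun i => by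
      refine (homologyπ_eq_zero_iff (K.obj (op i)) rfl _).1 ?_
      rw [map_sub, map_sub, ← homologyMap_class, hb, hb, sub_eq_zero]
      exact (congrFun hc i).symm
    choose w hw using hw
    obtain ⟨v, hv⟩ := exists_telescope K hK ((ComplexShape.up ℤ).prev q) w
    let y' : ∀ i, ((K.obj (op i)).X q : AddCommGrpCat.{u}) := fun i =>
      y.1 i - (K.obj (op i)).iCycles q (b i) - (K.obj (op i)).d _ q (v i)
    have hy' : ∀ i, fs K q i (y' (i + 1)) = y' i := fun i => by
      have e := hw i
      rw [← hv i, map_sub, map_sub, cy_spec, map_sub, ← fs_iCycles] at e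
      show fs K q i (y.1 (i + 1) - (K.obj (op (i + 1))).iCycles q (b (i + 1)) -
        (K.obj (op (i + 1))).d _ q (v (i + 1))) = y.1 i - (K.obj (op i)).iCycles q (b i) -
        (K.obj (op i)).d _ q (v i)
      rw [map_sub, map_sub, fs_d]
      linear_combination (norm := abel) e
    obtain ⟨x, hx⟩ := exists_lim_X K y' (compat K y' hy')
    refine Subtype.ext ((homologyπ_eq_zero_iff (limit K) (hprev hqp) _).2 ⟨x, lim_X_ext K fun i => ?_⟩)
    rw [pr_d, hx, (exists_zW K hqp y).choose_spec]
    show (K.obj (op i)).d q p (y.1 i - (K.obj (op i)).iCycles q (b i) - (K.obj (op i)).d _ q (v i)) = _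
    rw [map_sub, map_sub, d_iCycles, sub_zero,
      show (K.obj (op i)).d q p ((K.obj (op i)).d _ q (v i)) = 0 from
        ConcreteCategory.congr_hom ((K.obj (op i)).d_comp_d _ q p) (v i), sub_zero]

include hqp hK in
/-- The kernel of the comparison map is `lim¹` in the previous degree. -/
theorem nonempty_ker_equiv :
    Nonempty ((limit.post K (HomologicalComplex.homologyFunctor AddCommGrpCat.{u} (ComplexShape.up ℤ) p)).hom.ker ≃+
      Formal2.limOne (fun n => ((K.obj (op n)).homology q : AddCommGrpCat.{u})) (fun n => trH K n)) :=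
  ⟨(QuotientAddGroup.quotientKerEquivOfSurjective _ (beta_surjective K hqp)).symm.trans
    ((QuotientAddGroup.quotientAddEquivOfEq (ker_beta K hqp hK)).trans
      (QuotientAddGroup.quotientKerEquivOfSurjective _ (alpha_surjective K hqp hK)))⟩

end Groth.Agent.MilnorCx2
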